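import Cfsg.Agent.H847.Bs.Defs2
import Cfsg.Agent.FastGrp
import Cfsg.Agent.Prune
set_option linter.all false

section
prune_inst 0x7f00000000000000000000000000000000000000000000000000000000000000000000000000000000000000000000000000000000000000000000000000000000000000000000000000000000000000003fffffffffffffffffffffffffffbeffbdffffffff

-- part: H358/Bs/Trick
section
set_option linter.all false
open scoped Cfsg.Agent.FastGrp

-- part: H358/Bs/Fix
section
/-!
# BS01 (S5733): the fixed point trick (helper358)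

`G` a finite group, `K` a subgroup, `fp K g` the number of fixed points of `g` on `G ⧸ K`.

* `fp_eq_zero_iff`, `fp_conj`, `sum_fp` (Burnside), `card_bad_le`, `sum_bad`;
* `exists_of_fp_one` : `fp K g = 1` implies that the centraliser of `g` is in a conjugate of `K`;
* `sum_union`, `card_union` : the union of the conjugates of a TI-set `E` with normaliser `M`;
* `trick` : the trick; `trick_in`, `trickV` : the same inside an ambient group.
-/

set_option autoImplicit false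

namespace Cfsg.Agent.H358.Bs

open Cfsg.Agent.H847.Bs
open Cfsg.Agent.H851.Dg (nd nd_anti one_le_nd)
open scoped Classical

section Basic

variable {G : Type*} [Group G] {K : Subgroup G}

theorem smul_mk_eq_iff {g a : G} : g • (QuotientGroup.mk a : G ⧸ K) = QuotientGroup.mk a ↔ a⁻¹ * g * a ∈ K := by
  rw [MulAction.Quotient.smul_mk, smul_eq_mul, eq_comm, QuotientGroup.eq, mul_assoc]

theorem fp_eq_zero_iff [Finite G] {g : G} : fp K g = 0 ↔ ∀ x : G, x * g * x⁻¹ ∉ K := by
  unfold fp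
  rw [Finite.card_eq_zero_iff]
  constructor
  · intro h x hx
    refine h.false ⟨QuotientGroup.mk x⁻¹, smul_mk_eq_iff.2 ?_⟩
    rwa [inv_inv]
  · intro h
    refine ⟨fun ⟨y, hy⟩ => ?_⟩
    induction y using QuotientGroup.induction_on with
    | H a =>
      refine h a⁻¹ ?_
      rw [inv_inv]
      exact smul_mk_eq_iff.1 hy

theorem nd_eq [Finite G] : nd K = Nat.card {g : G // fp K g = 0} :=
  Nat.card_congr (Equiv.subtypeEquivRight fun _ => fp_eq_zero_iff.symm)

theorem fp_conj (g x : G) : fp K (g * x * g⁻¹) = fp K x := by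
  unfold fp
  refine Nat.card_congr ((MulAction.toPerm g⁻¹ : Equiv.Perm (G ⧸ K)).subtypeEquiv fun y => ?_)
  show (g * x * g⁻¹) • y = y ↔ x • g⁻¹ • y = g⁻¹ • y
  rw [mul_smul, mul_smul, ← smul_eq_iff_eq_inv_smul]

/-- Burnside for the transitive action on `G ⧸ K` -/
theorem sum_fp [Fintype G] : ∑ g : G, fp K g = Nat.card G := by
  have h := MulAction.sum_card_fixedBy_eq_card_orbits_mul_card_group G (G ⧸ K)
  have h1 : Fintype.card (Quotient (MulAction.orbitRel G (G ⧸ K))) = 1 := by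
    rw [Fintype.card_eq_one_iff]
    refine ⟨Quotient.mk'' (QuotientGroup.mk 1), fun y => ?_⟩
    induction y using Quotient.inductionOn' with
    | h a => exact Quotient.sound' (MulAction.exists_smul_eq G _ a |>.elim fun g hg => ⟨g, hg⟩)
  rw [h1, one_mul] at h
  rw [Nat.card_eq_fintype_card, ← h]
  refine Finset.sum_congr rfl fun g _ => ?_
  rw [fp, Nat.card_eq_fintype_card]
  exact Fintype.card_congr (Equiv.refl _)

/-- the sum of `fp` over the bad elements is the number of the bad elements -/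
theorem sum_bad [Fintype G] :
    ∑ g ∈ Finset.univ.filter (fun g : G => fp K g ≠ 1), fp K g = (Finset.univ.filter fun g : G => fp K g ≠ 1).card := by
  have h1 := Finset.sum_filter_add_sum_filter_not Finset.univ (fun g : G => fp K g ≠ 1) (fp K)
  have h2 := Finset.card_filter_add_card_filter_not (s := (Finset.univ : Finset G)) (fun g : G => fp K g ≠ 1)
  have h3 : ∑ g ∈ Finset.univ.filter (fun g : G => ¬ fp K g ≠ 1), fp K g =
      (Finset.univ.filter fun g : G => ¬ fp K g ≠ 1).card := by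
    rw [Finset.card_eq_sum_ones]
    refine Finset.sum_congr rfl fun g hg => ?_
    simpa using hg
  rw [sum_fp, Nat.card_eq_fintype_card, h3] at h1
  rw [Finset.card_univ] at h2
  omega

theorem card_zero [Fintype G] : (Finset.univ.filter fun g : G => fp K g = 0).card = nd K := by
  rw [nd_eq, Nat.card_eq_fintype_card, Fintype.card_subtype]

/-- **At most `2 nd K` elements have not exactly one fixed point.** -/
theorem card_bad_le' [Fintype G] : (Finset.univ.filter fun g : G => fp K g ≠ 1).card ≤ 2 * nd K := by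
  -- `Σ_{fp ≥ 2} (fp - 1) = nd K`
  set B := Finset.univ.filter fun g : G => fp K g ≠ 1 with hB
  have h1 : ∑ g ∈ B, fp K g = B.card := sum_bad
  have h2 := Finset.sum_filter_add_sum_filter_not B (fun g : G => fp K g = 0) (fp K)
  have h3 := Finset.card_filter_add_card_filter_not (s := B) (fun g : G => fp K g = 0)
  have h4 : ∑ g ∈ B.filter (fun g : G => fp K g = 0), fp K g = 0 :=
    Finset.sum_eq_zero fun g hg => (Finset.mem_filter.1 hg).2
  have h5 : 2 * (B.filter fun g : G => ¬ fp K g = 0).card ≤ ∑ g ∈ B.filter (fun g : G => ¬ fp K g = 0), fp K g := by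
    rw [mul_comm, ← smul_eq_mul]
    refine Finset.card_nsmul_le_sum _ _ _ fun g hg => ?_
    rw [hB, Finset.mem_filter, Finset.mem_filter] at hg
    have := hg.1.2
    have := hg.2
    omega
  have h6 : (B.filter fun g : G => fp K g = 0).card ≤ nd K := by
    rw [← card_zero]
    refine Finset.card_le_card fun g hg => ?_
    rw [Finset.mem_filter] at hg ⊢
    exact ⟨Finset.mem_univ _, hg.2⟩
  omega

theorem card_bad_le [Finite G] : Nat.card {g : G // fp K g ≠ 1} ≤ 2 * nd K := by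
  have := Fintype.ofFinite G
  rw [Nat.card_eq_fintype_card, Fintype.card_subtype]
  exact card_bad_le'

/-- a unique fixed point is fixed by the centraliser -/
theorem smul_eq_of_fp_one {g c : G} (h : fp K g = 1) (hc : c * g = g * c) {y : G ⧸ K} (hy : g • y = y) :
    c • y = y := by
  have h1 : Subsingleton {x : G ⧸ K // g • x = x} := (Nat.card_eq_one_iff_unique.1 h).1
  have h2 : g • (c • y) = c • y := by rw [← mul_smul, ← hc, mul_smul, hy]
  exact congrArg Subtype.val (Subsingleton.elim (⟨c • y, h2⟩ : {x : G ⧸ K // g • x = x}) ⟨y, hy⟩)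

theorem exists_fixed_of_fp_one {g : G} (h : fp K g = 1) : ∃ y : G ⧸ K, g • y = y := by
  obtain ⟨y⟩ := (Nat.card_eq_one_iff_unique.1 h).2
  exact ⟨y.1, y.2⟩

/-- **An element with exactly one fixed point has its centraliser in a conjugate of `K`.** -/
theorem exists_of_fp_one {g : G} (h : fp K g = 1) : ∃ x : G, ∀ c : G, c * g = g * c → x⁻¹ * c * x ∈ K := by
  obtain ⟨y, hy⟩ := exists_fixed_of_fp_one h
  induction y using QuotientGroup.induction_on with
  | H a => exact ⟨a, fun c hc => smul_mk_eq_iff.1 (smul_eq_of_fp_one h hc hy)⟩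

end Basic

section Union

variable {G : Type*} [Group G] {M : Subgroup G} {E : Set G}

/-- **Conjugates of a TI-set**, with weights. -/
theorem sum_union [Fintype G] (hTI : ∀ g, ∀ x ∈ E, g * x * g⁻¹ ∈ E → g ∈ M) (F : G → ℕ)
    (hF : ∀ g x, F (g * x * g⁻¹) = F x) :
    Nat.card G * ∑ x ∈ Finset.univ.filter (· ∈ E), F x ≤
      Nat.card M * ∑ y ∈ Finset.univ.filter (fun y => ∃ g, ∃ x ∈ E, y = g * x * g⁻¹), F y := by
  set A := Finset.univ.filter (· ∈ E) with hA
  set U := Finset.univ.filter (fun y : G => ∃ g, ∃ x ∈ E, y = g * x * g⁻¹) with hU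
  -- pairs
  have h1 : Nat.card G * ∑ x ∈ A, F x = ∑ a ∈ (Finset.univ : Finset G) ×ˢ A, F (a.1 * a.2 * a.1⁻¹) := by
    rw [Finset.sum_product, Nat.card_eq_fintype_card, ← Finset.card_univ, ← smul_eq_mul, ← Finset.sum_const]
    exact Finset.sum_congr rfl fun g _ => Finset.sum_congr rfl fun x _ => (hF g x).symm
  have h2 : ∑ a ∈ (Finset.univ : Finset G) ×ˢ A, F (a.1 * a.2 * a.1⁻¹) =
      ∑ y ∈ U, ∑ a ∈ ((Finset.univ : Finset G) ×ˢ A).filter (fun a => a.1 * a.2 * a.1⁻¹ = y),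
        F (a.1 * a.2 * a.1⁻¹) := by
    refine (Finset.sum_fiberwise_of_maps_to (fun a ha => ?_) _).symm
    rw [Finset.mem_product, hA, Finset.mem_filter] at ha
    rw [hU, Finset.mem_filter]
    exact ⟨Finset.mem_univ _, a.1, a.2, ha.2.2, rfl⟩
  rw [h1, h2, Finset.mul_sum]
  refine Finset.sum_le_sum fun y _ => ?_
  have h3 : ∑ a ∈ ((Finset.univ : Finset G) ×ˢ A).filter (fun a => a.1 * a.2 * a.1⁻¹ = y), F (a.1 * a.2 * a.1⁻¹) =
      (((Finset.univ : Finset G) ×ˢ A).filter (fun a => a.1 * a.2 * a.1⁻¹ = y)).card * F y := by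
    rw [← smul_eq_mul, ← Finset.sum_const]
    exact Finset.sum_congr rfl fun a ha => by rw [(Finset.mem_filter.1 ha).2]
  rw [h3]
  refine Nat.mul_le_mul_right _ ?_
  -- the fibre
  rcases (((Finset.univ : Finset G) ×ˢ A).filter (fun a => a.1 * a.2 * a.1⁻¹ = y)).eq_empty_or_nonempty with h0 | ⟨b, hb⟩
  · rw [h0, Finset.card_empty]
    exact Nat.zero_le _
  · rw [Finset.mem_filter, Finset.mem_product, hA, Finset.mem_filter] at hb
    have h4 : Nat.card M = (Finset.univ.filter (· ∈ M)).card := by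
      rw [Nat.card_eq_fintype_card, Fintype.card_subtype]
    rw [h4]
    refine Finset.card_le_card_of_injOn (fun a => b.1⁻¹ * a.1) (fun a ha => ?_) (fun a ha a' ha' haa => ?_)
    · rw [Finset.mem_coe, Finset.mem_filter, Finset.mem_product, hA, Finset.mem_filter] at ha
      rw [Finset.mem_coe, Finset.mem_filter]
      refine ⟨Finset.mem_univ _, hTI _ a.2 ha.1.2.2 ?_⟩
      have h5 : b.1⁻¹ * a.1 * a.2 * (b.1⁻¹ * a.1)⁻¹ = b.1⁻¹ * (a.1 * a.2 * a.1⁻¹) * b.1 := by group
      rw [h5, ha.2, ← hb.2]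
      have h6 : b.1⁻¹ * (b.1 * b.2 * b.1⁻¹) * b.1 = b.2 := by group
      rw [h6]
      exact hb.1.2.2
    · rw [Finset.mem_coe, Finset.mem_filter] at ha ha'
      have h5 : a.1 = a'.1 := mul_left_cancel haa
      have h6 : a.1 * a.2 * a.1⁻¹ = a'.1 * a'.2 * a'.1⁻¹ := ha.2.trans ha'.2.symm
      rw [h5] at h6
      exact Prod.ext h5 (mul_left_cancel (mul_right_cancel h6))

/-- **The number of conjugates of a TI-set.** -/
theorem card_union [Finite G] (hTI : ∀ g, ∀ x ∈ E, g * x * g⁻¹ ∈ E → g ∈ M) :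
    Nat.card G * Nat.card E ≤ Nat.card {y : G // ∃ g, ∃ x ∈ E, y = g * x * g⁻¹} * Nat.card M := by
  have := Fintype.ofFinite G
  have h := sum_union hTI (fun _ => 1) fun _ _ => rfl
  rw [← Finset.card_eq_sum_ones, ← Finset.card_eq_sum_ones] at h
  have h1 : Nat.card E = (Finset.univ.filter (· ∈ E)).card := by
    rw [Nat.card_eq_fintype_card, Fintype.card_subtype]
  have h2 : Nat.card {y : G // ∃ g, ∃ x ∈ E, y = g * x * g⁻¹} =
      (Finset.univ.filter fun y : G => ∃ g, ∃ x ∈ E, y = g * x * g⁻¹).card := by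
    rw [Nat.card_eq_fintype_card, Fintype.card_subtype]
  rw [h1, h2, mul_comm _ (Nat.card M)]
  exact h

theorem sum_union_le [Fintype G] (hTI : ∀ g, ∀ x ∈ E, g * x * g⁻¹ ∈ E → g ∈ M) (F : G → ℕ)
    (hF : ∀ g x, F (g * x * g⁻¹) = F x) :
    Nat.card G * ∑ x ∈ Finset.univ.filter (· ∈ E), F x ≤ Nat.card M * ∑ y, F y :=
  (sum_union hTI F hF).trans (Nat.mul_le_mul_left _ (Finset.sum_le_sum_of_subset (Finset.filter_subset _ _)))

end Union

end Cfsg.Agent.H358.Bs
end

-- part: H358/Bs/Trick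
section
/-!
# BS01 (S5733): the fixed point trick, main theorem (helper358)
-/

set_option autoImplicit false

namespace Cfsg.Agent.H358.Bs

open Cfsg.Agent.H847.Bs
open Cfsg.Agent.H851.Dg (nd nd_anti one_le_nd)
open scoped Classical

section Main

variable {G : Type*} [Group G] [Finite G]

/-- the weight -/
noncomputable def wt (H : Subgroup G) (y : G) : ℕ := if fp H y ≠ 1 then fp H y + 1 else 0

omit [Finite G] in
theorem wt_conj (H : Subgroup G) (g x : G) : wt H (g * x * g⁻¹) = wt H x := by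
  unfold wt
  rw [fp_conj]

omit [Finite G] in
theorem fp_le_wt (H : Subgroup G) (y : G) : fp H y ≤ 1 + wt H y := by
  unfold wt
  split_ifs with h <;> omega

omit [Finite G] in
theorem one_le_wt {H : Subgroup G} {y : G} (h : fp H y ≠ 1) : 1 ≤ wt H y := by
  unfold wt
  rw [if_pos h]
  omega

omit [Finite G] in
theorem sum_wt [Fintype G] (H : Subgroup G) : ∑ y, wt H y ≤ 4 * nd H := by
  have h1 : ∑ y, wt H y = ∑ y ∈ Finset.univ.filter (fun g : G => fp H g ≠ 1), (fp H y + 1) := by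
    rw [Finset.sum_filter]
    rfl
  rw [h1, Finset.sum_add_distrib, sum_bad, ← Finset.card_eq_sum_ones]
  have := card_bad_le' (K := H)
  omega

/-- `K₀` is transitive on the fixed points of `z` -/
theorem trans_of_sum {K₀ H : Subgroup G} {z : G} (hz : ∀ l ∈ K₀, z * l = l * z) [Fintype K₀]
    (h : ∑ l : K₀, fp H (z * l) < 2 * Nat.card K₀) {y₀ y : G ⧸ H} (h₀ : z • y₀ = y₀) (hy : z • y = y) :
    ∃ k : K₀, k • y₀ = y := by
  -- the action on the fixed points
  let Φ : SubMulAction K₀ (G ⧸ H) :=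
    { carrier := {x | z • x = x}
      smul_mem' := fun k x hx => by
        show z • ((k : G) • x) = (k : G) • x
        have hx' : z • x = x := hx
        rw [← mul_smul, hz k k.2, mul_smul, hx'] }
  have := Fintype.ofFinite Φ
  have h1 := MulAction.sum_card_fixedBy_eq_card_orbits_mul_card_group K₀ Φ
  have h2 : ∀ l : K₀, Fintype.card (MulAction.fixedBy Φ l) ≤ fp H (z * l) := by
    intro l
    rw [← Nat.card_eq_fintype_card]
    refine Nat.card_le_card_of_injective (fun x : MulAction.fixedBy Φ l =>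
      (⟨x.1.1, ?_⟩ : {x : G ⧸ H // (z * (l : G)) • x = x})) fun a b hab => ?_
    · have h3 : (l : G) • (x.1 : G ⧸ H) = x.1 := congrArg Subtype.val x.2
      have h4 : z • (x.1 : G ⧸ H) = x.1 := x.1.2
      rw [mul_smul, h3, h4]
    · exact Subtype.ext (Subtype.ext (Subtype.mk.inj hab))
  have h3 := Finset.sum_le_sum fun (l : K₀) (_ : l ∈ Finset.univ) => h2 l
  rw [h1] at h3
  rw [Nat.card_eq_fintype_card] at h
  have h4 : Fintype.card (Quotient (MulAction.orbitRel K₀ Φ)) ≤ 1 := by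
    by_contra hcon
    push Not at hcon
    have := Nat.mul_le_mul_right (Fintype.card K₀) hcon
    have h5 : (1 + 1) * Fintype.card K₀ = 2 * Fintype.card K₀ := by ring
    simp only [Nat.succ_eq_add_one] at this
    omega
  have h5 := Fintype.card_le_one_iff.1 h4 (Quotient.mk'' (⟨y, hy⟩ : Φ)) (Quotient.mk'' (⟨y₀, h₀⟩ : Φ))
  obtain ⟨k, hk⟩ := Quotient.exact' h5
  exact ⟨k, congrArg Subtype.val hk⟩

/-- **The fixed point trick**, minimal hypotheses. -/
theorem trick' {M K₀ : Subgroup G} {E : Set G} {c ε : ℝ} (hε : 0 < ε)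
    (hEK : ∀ y ∈ E, ∀ k ∈ K₀, y * k ∈ E) (hTI : ∀ g, ∀ x ∈ E, g * x * g⁻¹ ∈ E → g ∈ M)
    (hz : ∀ y ∈ E, ∃ z, ∃ k ∈ K₀, (∀ l ∈ K₀, z * l = l * z) ∧ y = z * k)
    (hcard : c * (Nat.card M : ℝ) ≤ Nat.card E) (hRB : RB ε K₀) (H : Subgroup G)
    (hH : 4 * (nd H : ℝ) < c * min 1 ε * Nat.card G) : ∃ g : G, ∀ k ∈ K₀, g * k * g⁻¹ ∈ H := by
  have := Fintype.ofFinite G
  set m : ℝ := min 1 ε with hm
  have hm0 : 0 < m := lt_min one_pos hε
  have hm1 : m ≤ 1 := min_le_left _ _
  have hmε : m ≤ ε := min_le_right _ _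
  have hMpos : (0 : ℝ) < Nat.card M := by exact_mod_cast Nat.card_pos
  have hGpos : (0 : ℝ) < Nat.card G := by exact_mod_cast Nat.card_pos
  have hKpos : (0 : ℝ) < Nat.card K₀ := by exact_mod_cast Nat.card_pos
  set A := Finset.univ.filter (· ∈ E) with hA
  have hAE : (Nat.card E : ℝ) = A.card := by
    rw [Nat.card_eq_fintype_card, hA]
    norm_cast
    exact Fintype.card_subtype _
  -- the sum of the weights over `E`
  have h1 : Nat.card G * ∑ x ∈ A, wt H x ≤ Nat.card M * (4 * nd H) :=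
    (sum_union_le hTI (wt H) (wt_conj H)).trans (Nat.mul_le_mul_left _ (sum_wt H))
  have h2 : ((∑ x ∈ A, wt H x : ℕ) : ℝ) < m * A.card := by
    have h3 : (Nat.card G : ℝ) * ((∑ x ∈ A, wt H x : ℕ) : ℝ) ≤ Nat.card M * (4 * nd H) := by exact_mod_cast h1
    have h4 : (Nat.card M : ℝ) * (4 * nd H) < Nat.card M * (c * m * Nat.card G) := mul_lt_mul_of_pos_left hH hMpos
    have h5 : (Nat.card G : ℝ) * ((∑ x ∈ A, wt H x : ℕ) : ℝ) < Nat.card G * (m * (c * Nat.card M)) := by
      calc (Nat.card G : ℝ) * ((∑ x ∈ A, wt H x : ℕ) : ℝ) < Nat.card M * (c * m * Nat.card G) := h3.trans_lt h4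
        _ = _ := by ring
    have h6 := lt_of_mul_lt_mul_left h5 hGpos.le
    refine h6.trans_le ?_
    rw [← hAE]
    exact mul_le_mul_of_nonneg_left hcard hm0.le
  -- a good coset
  have h3 : ∑ y ∈ A, ∑ k : K₀, wt H (y * k) = Nat.card K₀ * ∑ y ∈ A, wt H y := by
    rw [Finset.sum_comm, Nat.card_eq_fintype_card, ← Finset.card_univ, ← smul_eq_mul, ← Finset.sum_const]
    refine Finset.sum_congr rfl fun k _ => ?_
    refine Finset.sum_bij' (fun y _ => y * (k : G)) (fun y _ => y * (k : G)⁻¹) ?_ ?_ ?_ ?_ ?_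
    · intro y hy
      rw [hA, Finset.mem_filter] at hy ⊢
      exact ⟨Finset.mem_univ _, hEK y hy.2 k k.2⟩
    · intro y hy
      rw [hA, Finset.mem_filter] at hy ⊢
      exact ⟨Finset.mem_univ _, hEK y hy.2 _ (K₀.inv_mem k.2)⟩
    · intro y _
      exact mul_inv_cancel_right _ _
    · intro y _
      exact inv_mul_cancel_right _ _
    · intro y _
      rfl
  obtain ⟨y, hyA, hy⟩ : ∃ y ∈ A, ((∑ k : K₀, wt H (y * k) : ℕ) : ℝ) < m * Nat.card K₀ := by
    refine Finset.exists_lt_of_sum_lt ?_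
    rw [Finset.sum_const, nsmul_eq_mul, ← Nat.cast_sum, h3, Nat.cast_mul]
    calc (Nat.card K₀ : ℝ) * ((∑ y ∈ A, wt H y : ℕ) : ℝ) < Nat.card K₀ * (m * A.card) :=
          mul_lt_mul_of_pos_left h2 hKpos
      _ = _ := by ring
  have hyE : y ∈ E := (Finset.mem_filter.1 hyA).2
  obtain ⟨z, k₀, hk₀, hzK, rfl⟩ := hz y hyE
  have h4 : ((∑ l : K₀, wt H (z * l) : ℕ) : ℝ) < m * Nat.card K₀ := by
    have h5 : ∑ l : K₀, wt H (z * l) = ∑ k : K₀, wt H (z * k₀ * k) := by
      refine (Fintype.sum_equiv (Equiv.mulLeft (⟨k₀, hk₀⟩ : K₀)) _ _ fun k => ?_).symm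
      rw [Equiv.coe_mulLeft, Subgroup.coe_mul, mul_assoc]
    rwa [h5]
  -- the bad elements of `K₀`
  have h5 : (Finset.univ.filter fun l : K₀ => fp H (z * l) ≠ 1).card ≤ ∑ l : K₀, wt H (z * l) := by
    rw [Finset.card_eq_sum_ones, Finset.sum_filter]
    refine Finset.sum_le_sum fun l _ => ?_
    split_ifs with h
    · exact one_le_wt h
    · exact Nat.zero_le _
  have h5' : ((Finset.univ.filter fun l : K₀ => fp H (z * l) ≠ 1).card : ℝ) < m * Nat.card K₀ :=
    lt_of_le_of_lt (by exact_mod_cast h5) h4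
  obtain ⟨l₀, hl₀⟩ : ∃ l₀ : K₀, fp H (z * l₀) = 1 := by
    by_contra hcon
    push Not at hcon
    rw [Finset.filter_true_of_mem (fun l _ => hcon l), Finset.card_univ, ← Nat.card_eq_fintype_card] at h5'
    nlinarith only [hm1, h5']
  obtain ⟨y₀, hy₀⟩ := exists_fixed_of_fp_one hl₀
  have hcomm : ∀ l : K₀, z * (z * l) = z * l * z ∧ (l : G) * (z * l) = z * l * l := by
    intro l
    refine ⟨?_, ?_⟩
    · rw [mul_assoc, hzK l l.2]
    · rw [← mul_assoc, ← hzK l l.2]
  have hzy₀ : z • y₀ = y₀ := smul_eq_of_fp_one hl₀ (hcomm l₀).1 hy₀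
  have h6 : ∑ l : K₀, fp H (z * l) < 2 * Nat.card K₀ := by
    have h7 : ∑ l : K₀, fp H (z * l) ≤ ∑ l : K₀, (1 + wt H (z * l)) :=
      Finset.sum_le_sum fun l _ => fp_le_wt H _
    rw [Finset.sum_add_distrib, ← Finset.card_eq_sum_ones, Finset.card_univ, ← Nat.card_eq_fintype_card] at h7
    have h8 : ((∑ l : K₀, wt H (z * l) : ℕ) : ℝ) < Nat.card K₀ := by nlinarith only [hm1, h4]
    have h9 : ∑ l : K₀, wt H (z * l) < Nat.card K₀ := by exact_mod_cast h8
    omega
  -- the stabiliser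
  have hS : MulAction.stabilizer K₀ y₀ = ⊤ := by
    by_contra hne
    have h7 := hRB _ hne
    have h8 : nd (MulAction.stabilizer K₀ y₀) ≤ (Finset.univ.filter fun l : K₀ => fp H (z * l) ≠ 1).card := by
      unfold nd
      rw [Nat.card_eq_fintype_card, Fintype.card_subtype]
      refine Finset.card_le_card fun l hl => ?_
      rw [Finset.mem_filter] at hl ⊢
      refine ⟨Finset.mem_univ _, fun h1 => ?_⟩
      obtain ⟨y₁, hy₁⟩ := exists_fixed_of_fp_one h1
      have hz1 : z • y₁ = y₁ := smul_eq_of_fp_one h1 (hcomm l).1 hy₁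
      have hl1 : (l : G) • y₁ = y₁ := smul_eq_of_fp_one h1 (hcomm l).2 hy₁
      obtain ⟨k, hk⟩ := trans_of_sum hzK h6 hzy₀ hz1
      refine hl.2 k⁻¹ ?_
      rw [MulAction.mem_stabilizer_iff, inv_inv, mul_smul, mul_smul, hk]
      have hl2 : l • y₁ = y₁ := hl1
      rw [hl2, ← hk, inv_smul_smul]
    have h9 : (nd (MulAction.stabilizer K₀ y₀) : ℝ) ≤
      (Finset.univ.filter fun l : K₀ => fp H (z * l) ≠ 1).card := by exact_mod_cast h8
    nlinarith only [hmε, h5', h7, h9]
  revert hS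
  induction y₀ using QuotientGroup.induction_on with
  | H a =>
    intro hS
    refine ⟨a⁻¹, fun k hk => ?_⟩
    have h7 : (⟨k, hk⟩ : K₀) ∈ MulAction.stabilizer K₀ (QuotientGroup.mk a : G ⧸ H) := by
      rw [hS]; exact Subgroup.mem_top _
    rw [inv_inv]
    exact smul_mk_eq_iff.1 h7

set_option linter.unusedVariables false in
/-- **The fixed point trick.** -/
theorem trick {M K₀ : Subgroup G} {E : Set G} {c ε : ℝ} (hc : 0 < c) (hε : 0 < ε) (hKM : K₀ ≤ M) (hEM : E ⊆ M)
    (hEK : ∀ y ∈ E, ∀ k ∈ K₀, y * k ∈ E) (hTI : ∀ g, ∀ x ∈ E, g * x * g⁻¹ ∈ E → g ∈ M)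
    (hz : ∀ y ∈ E, ∃ z, ∃ k ∈ K₀, (∀ l ∈ K₀, z * l = l * z) ∧ y = z * k)
    (hcard : c * (Nat.card M : ℝ) ≤ Nat.card E) (hRB : RB ε K₀) (H : Subgroup G)
    (hH : 4 * (nd H : ℝ) < c * min 1 ε * Nat.card G) : ∃ g : G, ∀ k ∈ K₀, g * k * g⁻¹ ∈ H :=
  trick' hε hEK hTI hz hcard hRB H hH

end Main

end Cfsg.Agent.H358.Bs
end

private theorem dce_a4b2140c1869 : _root_.True := by
  try have : _root_.True := by simp only [_root_.Cfsg.Agent.H847.Bs.fp.eq_1]
  exact _root_.True.intro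
end

-- part: H358/Bs/Amb
section
set_option linter.all false
open scoped Cfsg.Agent.FastGrp

/-!
# BS01 (S5733): `RB` and the trick inside an ambient group (helper358)

* `RB.mono`, `RB.congr`, `RB.of_card_le`, `RB.of_surjective`, `RB.of_center`, `RB.of_rowB`;
* `ndIn G H` : the number of elements of `G` without a conjugate (under `G`) in `H`, `G`, `H` subgroups of an ambient
  group (`ndV` for `V ≃ₗ[F] V`); `nd_subgroupOf`;
* `card_noncent_le` : at most `2 ndIn G H` elements `x` of `G` have their centraliser `C_G(x)` in no conjugate of `H`;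
* `card_union_in`, `trick_in`, `trickV`.
-/

set_option autoImplicit false

namespace Cfsg.Agent.H358.Bs

open Cfsg.Agent.H847.Bs
open Cfsg.Agent.H851.Dg (nd nd_anti one_le_nd nd_comap_equiv RowB)
open scoped Classical commutatorElement

section RB

variable {G G' : Type*} [Group G] [Group G'] {c c' : ℝ}

theorem RB.mono (h : RB c G) (hc : c' ≤ c) : RB c' G := fun K hK =>
  (mul_le_mul_of_nonneg_right hc (Nat.cast_nonneg _)).trans (h K hK)

/-- transport along a surjective homomorphism -/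
theorem nd_comap [Finite G] (f : G →* G') (hf : Function.Surjective f) (K : Subgroup G') :
    nd (K.comap f) = Nat.card f.ker * nd K := by
  have : Finite G' := Finite.of_surjective f hf
  have h1 : ∀ x : G, (∀ g : G, g * x * g⁻¹ ∉ K.comap f) ↔ ∀ g : G', g * f x * g⁻¹ ∉ K := by
    intro x
    constructor
    · intro h g hg
      obtain ⟨g, rfl⟩ := hf g
      refine h g ?_
      rw [Subgroup.mem_comap, map_mul, map_mul, map_inv]
      exact hg
    · intro h g hg
      rw [Subgroup.mem_comap, map_mul, map_mul, map_inv] at hg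
      exact h _ hg
  have e : {x : G // ∀ g : G, g * x * g⁻¹ ∉ K.comap f} ≃ f.ker × {x : G' // ∀ g : G', g * x * g⁻¹ ∉ K} := by
    let s : G' → G := Function.surjInv hf
    have hs : ∀ y, f (s y) = y := Function.surjInv_eq hf
    exact
      { toFun := fun x => (⟨x.1 * (s (f x.1))⁻¹, by rw [MonoidHom.mem_ker, map_mul, map_inv, hs, mul_inv_cancel]⟩,
          ⟨f x.1, (h1 x.1).1 x.2⟩)
        invFun := fun y => ⟨y.1.1 * s y.2.1, (h1 _).2 (by
          rw [map_mul, MonoidHom.mem_ker.1 y.1.2, one_mul, hs]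
          exact y.2.2)⟩
        left_inv := fun x => Subtype.ext (inv_mul_cancel_right _ _)
        right_inv := fun y => by
          have h2 : f (y.1.1 * s y.2.1) = y.2.1 := by rw [map_mul, MonoidHom.mem_ker.1 y.1.2, one_mul, hs]
          refine Prod.ext (Subtype.ext ?_) (Subtype.ext h2)
          show y.1.1 * s y.2.1 * (s (f (y.1.1 * s y.2.1)))⁻¹ = y.1.1
          rw [h2, mul_inv_cancel_right] }
  unfold nd
  rw [Nat.card_congr e, Nat.card_prod]

theorem card_of_surjective [Finite G] (f : G →* G') (hf : Function.Surjective f) :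
    Nat.card G = Nat.card f.ker * Nat.card G' := by
  rw [← Subgroup.card_mul_index f.ker, Subgroup.index_ker, f.range_eq_top_of_surjective hf, Subgroup.card_top]

theorem RB.of_surjective [Finite G] (f : G →* G') (hf : Function.Surjective f) (h : RB c G) : RB c G' := by
  intro K hK
  have h1 : K.comap f ≠ ⊤ := by
    intro h2
    apply hK
    rw [eq_top_iff]
    intro y _
    obtain ⟨x, rfl⟩ := hf y
    have : x ∈ K.comap f := by rw [h2]; exact Subgroup.mem_top _
    exact this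
  have h2 := h _ h1
  rw [nd_comap f hf, card_of_surjective f hf, Nat.cast_mul, Nat.cast_mul] at h2
  have h3 : (0 : ℝ) < Nat.card f.ker := by exact_mod_cast Nat.card_pos
  have h4 : (Nat.card f.ker : ℝ) * (c * Nat.card G') ≤ Nat.card f.ker * nd K := by
    calc (Nat.card f.ker : ℝ) * (c * Nat.card G') = c * (Nat.card f.ker * Nat.card G') := by ring
      _ ≤ _ := h2
  exact le_of_mul_le_mul_left h4 h3

theorem RB.congr [Finite G] (e : G ≃* G') (h : RB c G) : RB c G' :=
  RB.of_surjective e.toMonoidHom e.surjective h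

/-- proper subgroups `K` with `nd` bounded through a quotient -/
theorem RB.of_quotient [Finite G] (f : G →* G') (hf : Function.Surjective f) (h : RB c G')
    (hK : ∀ K : Subgroup G, K ⊔ f.ker = ⊤ → K = ⊤) : RB c G := by
  have : Finite G' := Finite.of_surjective f hf
  intro K hK1
  have h1 : (K ⊔ f.ker).map f ≠ ⊤ := by
    intro h2
    apply hK1
    apply hK
    rw [eq_top_iff]
    intro x _
    have h3 : f x ∈ (K ⊔ f.ker).map f := by rw [h2]; exact Subgroup.mem_top _
    obtain ⟨y, hy, hxy⟩ := h3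
    have h4 : y⁻¹ * x ∈ f.ker := by rw [MonoidHom.mem_ker, map_mul, map_inv, hxy, inv_mul_cancel]
    have h5 : x = y * (y⁻¹ * x) := by group
    rw [h5]
    exact mul_mem hy ((le_sup_right : f.ker ≤ K ⊔ f.ker) h4)
  have h2 := h _ h1
  have h3 : K ≤ ((K ⊔ f.ker).map f).comap f := le_sup_left.trans (Subgroup.le_comap_map _ _)
  have h4 := nd_anti h3
  rw [nd_comap f hf] at h4
  rw [card_of_surjective f hf, Nat.cast_mul]
  have h5 : ((Nat.card f.ker * nd ((K ⊔ f.ker).map f) : ℕ) : ℝ) ≤ nd K := by exact_mod_cast h4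
  rw [Nat.cast_mul] at h5
  have h6 : (Nat.card f.ker : ℝ) * (c * Nat.card G') ≤ Nat.card f.ker * nd ((K ⊔ f.ker).map f) :=
    mul_le_mul_of_nonneg_left h2 (Nat.cast_nonneg _)
  calc c * (Nat.card f.ker * Nat.card G') = (Nat.card f.ker : ℝ) * (c * Nat.card G') := by ring
    _ ≤ _ := h6.trans h5

/-- perfect groups: central quotients -/
theorem RB.of_center [Finite G] (hG : commutator G = ⊤) (h : RB c (G ⧸ Subgroup.center G)) : RB c G := by
  refine RB.of_quotient (QuotientGroup.mk' _) (QuotientGroup.mk'_surjective _) h fun K hK => ?_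
  rw [QuotientGroup.ker_mk'] at hK
  rw [eq_top_iff, ← hG]
  -- commutators of elements of `K Z` are in `K`
  rw [commutator_def, Subgroup.commutator_le]
  have h1 : ∀ x : G, ∃ k ∈ K, ∃ z ∈ Subgroup.center G, k * z = x := by
    intro x
    have h0 : x ∈ K ⊔ Subgroup.center G := by rw [hK]; exact Subgroup.mem_top x
    exact Subgroup.mem_sup_of_normal_right.1 h0
  intro x _ y _
  obtain ⟨k, hk, z, hz, rfl⟩ := h1 x
  obtain ⟨l, hl, w, hw, rfl⟩ := h1 y
  have hz' := Subgroup.mem_center_iff.1 hz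
  have hw' := Subgroup.mem_center_iff.1 hw
  have h2 : ⁅k * z, l * w⁆ = ⁅k, l⁆ := by
    rw [commutatorElement_def, commutatorElement_def, mul_inv_rev, mul_inv_rev]
    have e1 : k * z * (l * w) = k * l * (z * w) := by
      rw [mul_assoc, ← mul_assoc z, ← hz' l]
      simp only [mul_assoc]
    have e2 : z⁻¹ * k⁻¹ * (w⁻¹ * l⁻¹) = (z * w)⁻¹ * (k⁻¹ * l⁻¹) := by
      have e3 : k⁻¹ * w⁻¹ = w⁻¹ * k⁻¹ := by
        rw [← mul_inv_rev, ← mul_inv_rev, hw' k]
      have e4 : z * w = w * z := (hw' z)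
      calc z⁻¹ * k⁻¹ * (w⁻¹ * l⁻¹) = z⁻¹ * (k⁻¹ * w⁻¹) * l⁻¹ := by simp only [mul_assoc]
        _ = z⁻¹ * w⁻¹ * (k⁻¹ * l⁻¹) := by rw [e3]; simp only [mul_assoc]
        _ = (w * z)⁻¹ * (k⁻¹ * l⁻¹) := by rw [mul_inv_rev w z]
        _ = _ := by rw [← e4]
    rw [e1, mul_assoc _ (z⁻¹ * k⁻¹), e2]
    group
  rw [h2]
  exact Subgroup.commutator_mem_commutator hk hl |> fun h3 => by
    have h4 : ⁅K, K⁆ ≤ K := Subgroup.commutator_le.2 fun a ha b hb => by
      rw [commutatorElement_def]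
      exact K.mul_mem (K.mul_mem (K.mul_mem ha hb) (K.inv_mem ha)) (K.inv_mem hb)
    exact h4 h3

theorem RB.of_card_le [Finite G] {N : ℕ} (h : Nat.card G ≤ N) : RB (1 / N : ℝ) G := by
  intro K hK
  have h1 : (1 : ℝ) ≤ nd K := by exact_mod_cast one_le_nd hK
  have h2 : (0 : ℝ) < N := by
    have : 0 < Nat.card G := Nat.card_pos
    exact_mod_cast (by omega : 0 < N)
  refine le_trans ?_ h1
  rw [one_div, inv_mul_le_iff₀ h2, mul_one]
  exact_mod_cast h

theorem RB.of_rowB [Finite G] (h : RowB c G) : RB c G := by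
  intro K hK
  obtain ⟨M, hM, hKM⟩ := (eq_top_or_exists_le_coatom K).resolve_left hK
  refine (h M hM).trans ?_
  exact_mod_cast nd_anti hKM

end RB

section Amb

variable {Γ : Type*} [Group Γ] (G H : Subgroup Γ)

/-- the number of elements of `G` without a conjugate (under `G`) in `H` -/
noncomputable def ndIn : ℕ := Nat.card {x : Γ // x ∈ G ∧ ∀ g ∈ G, g * x * g⁻¹ ∉ H}

theorem nd_subgroupOf : nd (H.subgroupOf G) = ndIn G H := by
  refine Nat.card_congr
    { toFun := fun x => ⟨x.1, x.1.2, fun g hg h => x.2 ⟨g, hg⟩ h⟩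
      invFun := fun x => ⟨⟨x.1, x.2.1⟩, fun g h => x.2.2 g g.2 h⟩
      left_inv := fun _ => rfl
      right_inv := fun _ => rfl }

variable {G H}

/-- **At most `2 ndIn G H` elements of `G` have their centraliser in no conjugate of `H`.** -/
theorem card_noncent_le [Finite G] :
    Nat.card {x : Γ // x ∈ G ∧ ¬ ∃ g ∈ G, ∀ c ∈ G, c * x = x * c → g * c * g⁻¹ ∈ H} ≤ 2 * ndIn G H := by
  rw [← nd_subgroupOf]
  refine le_trans ?_ card_bad_le
  refine Nat.card_le_card_of_injective (fun x : {x : Γ // x ∈ G ∧ ¬ ∃ g ∈ G, ∀ c ∈ G, c * x = x * c → g * c * g⁻¹ ∈ H}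
    => (⟨⟨x.1, x.2.1⟩, fun h => ?_⟩ : {g : G // fp (H.subgroupOf G) g ≠ 1})) fun a b hab => ?_
  · obtain ⟨y, hy⟩ := exists_of_fp_one h
    refine x.2.2 ⟨(y : Γ)⁻¹, G.inv_mem y.2, fun c hc hcx => ?_⟩
    have h1 := hy ⟨c, hc⟩ (Subtype.ext hcx)
    rw [inv_inv]
    exact h1
  · exact Subtype.ext (congrArg (fun z : {g : G // fp (H.subgroupOf G) g ≠ 1} => (z.1 : Γ)) hab)

variable {M K₀ : Subgroup Γ} {E : Set Γ}

/-- **Conjugates of a TI-set**, in an ambient group. -/
theorem card_union_in [Finite G] (hMG : M ≤ G) (hEG : E ⊆ G) (hTI : ∀ g ∈ G, ∀ x ∈ E, g * x * g⁻¹ ∈ E → g ∈ M) :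
    Nat.card G * Nat.card E ≤ Nat.card {y : Γ // ∃ g ∈ G, ∃ x ∈ E, y = g * x * g⁻¹} * Nat.card M := by
  have h := card_union (M := M.subgroupOf G) (E := {x : G | (x : Γ) ∈ E}) fun g x hx h => hTI g g.2 x hx h
  have h1 : Nat.card {x : G | (x : Γ) ∈ E} = Nat.card E :=
    Nat.card_congr
      { toFun := fun x => ⟨x.1, x.2⟩
        invFun := fun x => ⟨⟨x.1, hEG x.2⟩, x.2⟩
        left_inv := fun _ => rfl
        right_inv := fun _ => rfl }
  have h2 : Nat.card {y : G // ∃ g, ∃ x ∈ {x : G | (x : Γ) ∈ E}, y = g * x * g⁻¹} =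
      Nat.card {y : Γ // ∃ g ∈ G, ∃ x ∈ E, y = g * x * g⁻¹} := by
    refine Nat.card_congr
      { toFun := fun y => ⟨y.1, by
          obtain ⟨g, x, hx, h⟩ := y.2
          exact ⟨g, g.2, x, hx, by rw [h]; rfl⟩⟩
        invFun := fun y => ⟨⟨y.1, by
          obtain ⟨g, hg, x, hx, h⟩ := y.2
          rw [h]
          exact G.mul_mem (G.mul_mem hg (hEG hx)) (G.inv_mem hg)⟩, by
          obtain ⟨g, hg, x, hx, h⟩ := y.2
          exact ⟨⟨g, hg⟩, ⟨x, hEG hx⟩, hx, Subtype.ext h⟩⟩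
        left_inv := fun _ => rfl
        right_inv := fun _ => rfl }
  have h3 : Nat.card (M.subgroupOf G) = Nat.card M := Nat.card_congr (Subgroup.subgroupOfEquivOfLe hMG).toEquiv
  rw [h1, h2, h3] at h
  exact h

/-- **The fixed point trick in an ambient group.** -/
theorem trick_in [Finite G] {c ε : ℝ} (hε : 0 < ε) (hMG : M ≤ G) (hKM : K₀ ≤ M) (hEM : E ⊆ M)
    (hEK : ∀ y ∈ E, ∀ k ∈ K₀, y * k ∈ E) (hTI : ∀ g ∈ G, ∀ x ∈ E, g * x * g⁻¹ ∈ E → g ∈ M)
    (hz : ∀ y ∈ E, ∃ z, ∃ k ∈ K₀, (∀ l ∈ K₀, z * l = l * z) ∧ y = z * k)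
    (hcard : c * (Nat.card M : ℝ) ≤ Nat.card E) (hRB : RB ε K₀)
    (hH : 4 * (ndIn G H : ℝ) < c * min 1 ε * Nat.card G) : ∃ g ∈ G, ∀ k ∈ K₀, g * k * g⁻¹ ∈ H := by
  have hKG : K₀ ≤ G := hKM.trans hMG
  have h1 : Nat.card {x : G | (x : Γ) ∈ E} = Nat.card E :=
    Nat.card_congr
      { toFun := fun x => ⟨x.1, x.2⟩
        invFun := fun x => ⟨⟨x.1, hMG (hEM x.2)⟩, x.2⟩
        left_inv := fun _ => rfl
        right_inv := fun _ => rfl }
  have h3 : Nat.card (M.subgroupOf G) = Nat.card M := Nat.card_congr (Subgroup.subgroupOfEquivOfLe hMG).toEquiv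
  have hfin : Finite K₀ := Finite.of_injective (Subgroup.inclusion hKG) (Subgroup.inclusion_injective hKG)
  obtain ⟨g, hg⟩ := trick' (G := G) (M := M.subgroupOf G) (K₀ := K₀.subgroupOf G) (E := {x : G | (x : Γ) ∈ E})
    (c := c) hε (fun y hy k hk => hEK y hy k hk) (fun g x hx h => hTI g g.2 x hx h)
    (fun y hy => by
      obtain ⟨z, k, hk, hzk, hyz⟩ := hz y hy
      have hzG : z ∈ G := by
        have h4 : z = y * k⁻¹ := by rw [hyz, mul_inv_cancel_right]
        rw [h4]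
        exact G.mul_mem y.2 (G.inv_mem (hKG hk))
      exact ⟨⟨z, hzG⟩, ⟨k, hKG hk⟩, hk, fun l hl => Subtype.ext (hzk l hl), Subtype.ext hyz⟩)
    (by rw [h1, h3]; exact hcard) (RB.congr (Subgroup.subgroupOfEquivOfLe hKG).symm hRB) (H.subgroupOf G)
    (by rw [nd_subgroupOf]; exact hH)
  exact ⟨g, g.2, fun k hk => hg ⟨k, hKG hk⟩ hk⟩

end Amb

section Lin

variable {F V : Type*} [Field F] [AddCommGroup V] [Module F V]

/-- **The fixed point trick for linear groups.** -/
theorem trickV {G H M K₀ : Subgroup (V ≃ₗ[F] V)} [Finite G] {E : Set (V ≃ₗ[F] V)} {c ε : ℝ} (hε : 0 < ε) (hMG : M ≤ G)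
    (hKM : K₀ ≤ M) (hEM : E ⊆ M) (hEK : ∀ y ∈ E, ∀ k ∈ K₀, y * k ∈ E)
    (hTI : ∀ g ∈ G, ∀ x ∈ E, g * x * g⁻¹ ∈ E → g ∈ M)
    (hz : ∀ y ∈ E, ∃ z, ∃ k ∈ K₀, (∀ l ∈ K₀, z * l = l * z) ∧ y = z * k)
    (hcard : c * (Nat.card M : ℝ) ≤ Nat.card E) (hRB : RB ε K₀)
    (hH : 4 * (ndV G H : ℝ) < c * min 1 ε * Nat.card G) : ∃ g ∈ G, ∀ k ∈ K₀, g * k * g⁻¹ ∈ H :=
  trick_in hε hMG hKM hEM hEK hTI hz hcard hRB hH

/-- at most `2 ndV G H` elements of `G` have their centraliser in no conjugate of `H` -/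
theorem card_noncentV_le {G H : Subgroup (V ≃ₗ[F] V)} [Finite G] :
    Nat.card {x : V ≃ₗ[F] V // x ∈ G ∧ ¬ ∃ g ∈ G, ∀ c ∈ G, c * x = x * c → g * c * g⁻¹ ∈ H} ≤ 2 * ndV G H :=
  card_noncent_le

end Lin

end Cfsg.Agent.H358.Bs
end
end
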