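import Cfsg.Agent.H358.Bs.Amb
import Cfsg.Agent.H548.BS.Transf
import Cfsg.Agent.H953.Sympl
import Cfsg.Agent.S0248
import Cfsg.Agent.S0269
import Cfsg.Agent.Prune
set_option linter.all false
prune_inst 0x7f00000000000000000000000000000000000000000000000000000000000000000000000000000000000000000000000000000000000000000000000000000000000000000000000000000000000000003fffffffffffffffffffffffffffbeffbdffffffff
open scoped Cfsg.Agent.FastGrp

/-!
# S5733, BR1: `slV F V` and `SL_n(F)`, the isometry group of a symplectic space and `Sp_{2m}(F)` (helper358)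
-/

set_option autoImplicit false

namespace Cfsg.Agent.H358.Bs

open Cfsg.Agent.H851.Dg Cfsg.Agent.H847.Bs
open Cfsg.Agent.H548.BS (range_toLin' spFrm spHom range_spHom spHom_injective)

section conj

variable {F V V' : Type*} [Field F] [AddCommGroup V] [Module F V] [AddCommGroup V'] [Module F V']

/-- conjugation by a linear equivalence -/
def conjE (e : V ≃ₗ[F] V') : (V ≃ₗ[F] V) ≃* (V' ≃ₗ[F] V') where
  toFun g := (e.symm.trans g).trans e
  invFun g := (e.trans g).trans e.symm
  left_inv g := by ext v; simp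
  right_inv g := by ext v; simp
  map_mul' g h := by
    ext v
    show e (g (h (e.symm v))) = e (g (e.symm (e (h (e.symm v)))))
    rw [e.symm_apply_apply]

theorem conjE_apply (e : V ≃ₗ[F] V') (g : V ≃ₗ[F] V) (v : V') : conjE e g v = e (g (e.symm v)) := rfl

theorem conjE_apply' (e : V ≃ₗ[F] V') (g : V ≃ₗ[F] V) (v : V) : conjE e g (e v) = e (g v) := by
  rw [conjE_apply, e.symm_apply_apply]

theorem map_slV (e : V ≃ₗ[F] V') : (slV F V).map (conjE e).toMonoidHom = slV F V' := by
  have h : ∀ g : V ≃ₗ[F] V, LinearMap.det (conjE e g : V' →ₗ[F] V') = LinearMap.det (g : V →ₗ[F] V) := by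
    intro g
    exact LinearMap.det_conj (g : V →ₗ[F] V) e
  ext g
  constructor
  · rintro ⟨x, hx, rfl⟩
    exact (h x).trans hx
  · intro hg
    refine ⟨(conjE e).symm g, ?_, (conjE e).apply_symm_apply g⟩
    show LinearMap.det ((conjE e).symm g : V →ₗ[F] V) = 1
    rw [← h, (conjE e).apply_symm_apply]
    exact hg

/-- an isometry of spaces with forms -/
theorem map_Iso (e : V ≃ₗ[F] V') {Φ : Frm F V} {Φ' : Frm F V'} (hB : ∀ x y, Φ'.B (e x) (e y) = Φ.B x y)
    (hq : ∀ x, Φ'.q (e x) = Φ.q x) : Φ.Iso.map (conjE e).toMonoidHom = Φ'.Iso := by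
  ext g
  constructor
  · rintro ⟨x, hx, rfl⟩
    refine ⟨fun u v => ?_, fun u => ?_⟩
    · obtain ⟨u, rfl⟩ := e.surjective u
      obtain ⟨v, rfl⟩ := e.surjective v
      show Φ'.B (conjE e x (e u)) (conjE e x (e v)) = _
      rw [conjE_apply', conjE_apply', hB, hB, hx.1]
    · obtain ⟨u, rfl⟩ := e.surjective u
      show Φ'.q (conjE e x (e u)) = _
      rw [conjE_apply', hq, hq, hx.2]
  · intro hg
    obtain ⟨x, rfl⟩ := (conjE e).surjective g
    refine ⟨x, ⟨fun u v => ?_, fun u => ?_⟩, rfl⟩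
    · have := hg.1 (e u) (e v)
      rwa [conjE_apply', conjE_apply', hB, hB] at this
    · have := hg.2 (e u)
      rwa [conjE_apply', hq, hq] at this

/-- the isomorphism of subgroups -/
noncomputable def subEquiv (e : V ≃ₗ[F] V') {G : Subgroup (V ≃ₗ[F] V)} {G' : Subgroup (V' ≃ₗ[F] V')}
    (h : G.map (conjE e).toMonoidHom = G') : G ≃* G' :=
  (G.equivMapOfInjective (conjE e).toMonoidHom (conjE e).injective).trans (MulEquiv.subgroupCongr h)

end conj

section sl

variable {F V : Type*} [Field F] [AddCommGroup V] [Module F V]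

end sl

section sp

variable {F : Type} {V : Type*} [Field F] [AddCommGroup V] [Module F V]

/-- a symplectic space is isometric to the standard one -/
theorem exists_isometry_sp [Module.Finite F V] {Φ : Frm F V} (hΦ : IsSp Φ) {m : ℕ} (hm : Module.finrank F V = 2 * m) :
    ∃ e : V ≃ₗ[F] (Fin m ⊕ Fin m → F), ∀ x y, (spFrm m).B (e x) (e y) = Φ.B x y := by
  set B : LinearMap.BilinForm F V := LinearMap.mk₂ F Φ.B Φ.add_left (fun c x y => by rw [Φ.smul_left, smul_eq_mul])
    Φ.add_right (fun c x y => by rw [Φ.smul_right, hΦ.s, smul_eq_mul]) with hB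
  have hBA : ∀ x y, B x y = Φ.B x y := fun x y => rfl
  have hA : B.IsAlt := fun x => hΦ.alt x
  obtain ⟨m', b, h1, h2, h3⟩ := H953.exists_symplectic_basis B hA (fun u hu => hΦ.nd u hu)
  have hm' : m' = m := by
    have h4 := Module.finrank_eq_card_basis b
    rw [Fintype.card_sum, Fintype.card_fin] at h4
    omega
  subst hm'
  have hanti : ∀ x y, B x y = -B y x := fun x y => (hA.neg_eq y x).symm
  -- the standard symplectic basis: swap
  refine ⟨(b.reindex (Equiv.sumComm (Fin m') (Fin m'))).equivFun, ?_⟩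
  set b' := b.reindex (Equiv.sumComm (Fin m') (Fin m')) with hb'
  have hbl : ∀ i, b' (Sum.inl i) = b (Sum.inr i) := fun i => by rw [hb', Module.Basis.reindex_apply]; rfl
  have hbr : ∀ i, b' (Sum.inr i) = b (Sum.inl i) := fun i => by rw [hb', Module.Basis.reindex_apply]; rfl
  have key : ∀ u v : Fin m' ⊕ Fin m' → F, (spFrm m').B u v = B (∑ i, u i • b' i) (∑ j, v j • b' j) := by
    intro u v
    have e1 : B (∑ i, u i • b' i) (∑ j, v j • b' j) = ∑ i, ∑ j, u i * (v j * B (b' i) (b' j)) := by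
      rw [LinearMap.BilinForm.sum_left]
      refine Finset.sum_congr rfl fun i _ => ?_
      rw [LinearMap.BilinForm.sum_right]
      refine Finset.sum_congr rfl fun j _ => ?_
      rw [LinearMap.BilinForm.smul_left, LinearMap.BilinForm.smul_right]
    rw [e1]
    show u ⬝ᵥ ((Matrix.J (Fin m') F).mulVec v) = _
    simp only [Fintype.sum_sum_type, dotProduct, Matrix.J, Matrix.mulVec, Matrix.fromBlocks_apply₁₁,
      Matrix.fromBlocks_apply₁₂, Matrix.fromBlocks_apply₂₁, Matrix.fromBlocks_apply₂₂, hbl, hbr, h2, h3, h1]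
    have h1' : ∀ i j, B (b (Sum.inr i)) (b (Sum.inl j)) = -(if j = i then 1 else 0) := fun i j => by
      rw [hanti, h1]
    simp only [h1', Matrix.zero_apply, Matrix.neg_apply, Matrix.one_apply]
    congr 1
    · refine Finset.sum_congr rfl fun i _ => ?_
      simp
    · refine Finset.sum_congr rfl fun i _ => ?_
      simp
  intro x y
  rw [key, b'.sum_equivFun, b'.sum_equivFun, hBA]

/-- `Sp(V) ≃ Sp_{2m}(F)` -/
theorem sp_equiv [Module.Finite F V] {Φ : Frm F V} (hΦ : IsSp Φ) {m : ℕ} (hm : Module.finrank F V = 2 * m) :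
    Nonempty (Φ.Iso ≃* Matrix.symplecticGroup (Fin m) F) := by
  obtain ⟨e, he⟩ := exists_isometry_sp hΦ hm
  exact ⟨(subEquiv e (map_Iso e he (fun x => (hΦ.q x).symm))).trans
    ((MonoidHom.ofInjective (spHom_injective m)).trans (MulEquiv.subgroupCongr (range_spHom m))).symm⟩

/-- **from `PSp_{2m}` to `Sp(V)`** -/
theorem rb_iso_of_psp [Fintype F] [Module.Finite F V] {Φ : Frm F V} (hΦ : IsSp Φ) {m : ℕ}
    (hm : Module.finrank F V = 2 * m) (hex : 3 ≤ m ∨ (m = 2 ∧ 3 ≤ Fintype.card F)) {c : ℝ}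
    (h : RB c (Cfsg.PSp m F)) : RB c Φ.Iso := by
  obtain ⟨e⟩ := sp_equiv hΦ hm
  have h1 : RB c (Matrix.symplecticGroup (Fin m) F) := RB.of_center (S0269.result m (by omega)) h
  have : Finite Φ.Iso := Finite.of_equiv _ e.symm.toEquiv
  exact RB.congr e.symm h1

end sp

end Cfsg.Agent.H358.Bs
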